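import Groth.Agent.S6162
import Groth.Agent.Lib.Lead.SS.Abut
import Groth.Agent.Lib.Lead.SC.Global
import Groth.Prelude.Def_CohTop

/-! # The Leray spectral sequence of a continuous map, and its degenerate case. -/

set_option autoImplicit false
universe u
open CategoryTheory Limits Opposite TopologicalSpace

namespace Groth.Agent.LD.TopLeray

variable {X Y : TopCat.{u}} (f : X ⟶ Y) (F : CohTop.Ab X)

theorem preservesFiniteLimits_pullback :
    PreservesFiniteLimits ((Opens.map f).sheafPullback (Type u)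
      (Opens.grothendieckTopology Y) (Opens.grothendieckTopology X)) := by
  haveI : PreservesFiniteLimits ((Opens.map f).op.lan : (_ ⥤ _ ⥤ Type u)) := by
    infer_instance
  apply Functor.sheafPullbackConstruction.preservesFiniteLimits

theorem exists_leray :
    ∃ (E : E₂CohomologicalSpectralSequence AddCommGrpCat.{u})
      (a : SpSeq.Abutment E (fun n : ℤ =>
        if 0 ≤ n then AddCommGrpCat.of (CohTop.HU F n.toNat ((Opens.map f).obj ⊤))
        else AddCommGrpCat.of PUnit.{u + 1})),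
      (∀ n, a.IsFinite n) ∧ SpSeq.IsBounded E ∧
      ∀ p q : ℤ, Nonempty ((E.page 2 le_rfl).X (p, q) ≅
        (if 0 ≤ p ∧ 0 ≤ q then
          AddCommGrpCat.of (CohTop.HU ((CohTop.Rpush f q.toNat).obj F) p.toNat ⊤)
         else AddCommGrpCat.of PUnit.{u + 1})) :=
  haveI := preservesFiniteLimits_pullback f
  Groth.Agent.S6162.result (Opens.grothendieckTopology X) (Opens.grothendieckTopology Y)
    (Opens.map f) F ⊤

end Groth.Agent.LD.TopLeray

namespace Groth.Agent.LD.TopLeray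

open Groth.Agent.LD

variable {X Y : TopCat.{u}} (f : X ⟶ Y) (F : CohTop.Ab X)

lemma isZero_punit : IsZero (AddCommGrpCat.of PUnit.{u + 1}) :=
  AddCommGrpCat.isZero_of_subsingleton _

/-- the degenerate case of the Leray spectral sequence. -/
theorem nonempty_H_addEquiv
    (h : ∀ p q : ℕ, Subsingleton (CohTop.H ((CohTop.Rpush f q).obj F) (p + 1))) (q : ℕ) :
    Nonempty (CohTop.H F q ≃+ ((CohTop.Rpush f q).obj F).obj.obj (op ⊤)) := by
  obtain ⟨E, a, hfin, -, hE2⟩ := exists_leray f F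
  -- vanishing off the column `p = 0`
  have hdeg : ∀ m q' : ℤ, q' ≠ m → IsZero ((E.page 2 le_rfl).X (m - q', q')) := by
    intro m q' hq'
    obtain ⟨e⟩ := hE2 (m - q') q'
    refine IsZero.of_iso ?_ e
    by_cases hc : 0 ≤ m - q' ∧ 0 ≤ q'
    · rw [if_pos hc]
      obtain ⟨p', hp'⟩ : ∃ p' : ℕ, (m - q').toNat = p' + 1 :=
        ⟨(m - q').toNat - 1, by omega⟩
      rw [hp']
      haveI := h p' q'.toNat
      haveI : Subsingleton (CohTop.HU ((CohTop.Rpush f q'.toNat).obj F) (p' + 1) ⊤) :=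
        (SC.HEquiv (T := (⊤ : Opens Y)) Limits.isTerminalTop
          ((CohTop.Rpush f q'.toNat).obj F) (p' + 1)).symm.toEquiv.subsingleton
      exact AddCommGrpCat.isZero_of_subsingleton _
    · rw [if_neg hc]
      exact isZero_punit
  have hst : SpSeq.StationaryAt E ((q : ℤ) - (q : ℤ), (q : ℤ)) 2 := by
    refine ⟨le_rfl, fun r' h₀ hr' => ⟨?_, ?_⟩⟩
    · refine IsZero.eq_of_src (SS.isZero_page_of_le E 2 le_rfl _ ?_ r' hr') _ _
      obtain ⟨e⟩ := hE2 (((q : ℤ) - (q : ℤ), (q : ℤ)) - (r', 1 - r')).1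
        (((q : ℤ) - (q : ℤ), (q : ℤ)) - (r', 1 - r')).2
      refine IsZero.of_iso ?_ e
      rw [if_neg (by simp; omega)]
      exact isZero_punit
    · refine IsZero.eq_of_tgt (SS.isZero_page_of_le E 2 le_rfl _ ?_ r' hr') _ _
      have := hdeg ((q : ℤ) + 1) ((q : ℤ) + 1 - r') (by omega)
      have e : ((q : ℤ) + 1 - ((q : ℤ) + 1 - r'), (q : ℤ) + 1 - r') =
          ((q : ℤ) - (q : ℤ), (q : ℤ)) + (r', 1 - r') := by
        ext <;> simp <;> omega
      rwa [e] at this
  have hexh : a.IsExhaustive (q : ℤ) := by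
    obtain ⟨b, hb⟩ := (hfin (q : ℤ)).1
    exact ⟨fun _ _ => le_top, fun c hc => hb ▸ hc ⟨b, rfl⟩⟩
  obtain ⟨e1⟩ := SS.nonempty_iso_of_single E a 2 le_rfl (fun m => m) hdeg (q : ℤ)
    (hfin (q : ℤ)).2 hexh hst
  obtain ⟨e2⟩ := hE2 ((q : ℤ) - (q : ℤ)) (q : ℤ)
  have e3 := e1 ≪≫ e2

  rw [if_pos (by omega), if_pos (by omega)] at e3
  simp only [Int.toNat_natCast] at e3
  have hz : ((q : ℤ) - (q : ℤ)).toNat = 0 := by simp
  rw [hz] at e3
  have e4 : CohTop.HU F q ((Opens.map f).obj ⊤) ≃+ CohTop.HU ((CohTop.Rpush f q).obj F) 0 ⊤ :=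
    e3.addCommGroupIsoToAddEquiv
  exact ⟨((SC.HEquiv (T := (⊤ : Opens X)) Limits.isTerminalTop F q).trans e4).trans
    (SC.H0Equiv (⊤ : Opens Y) ((CohTop.Rpush f q).obj F))⟩

end Groth.Agent.LD.TopLeray
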