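import Mathlib
import Groth.Prelude.Def_CohTop
import Groth.Agent.Lib.Lead.LCZ.Sect

/-! # The first step of the Godement resolution. -/

universe u
open CategoryTheory Limits Opposite TopologicalSpace

namespace Groth.Agent.LD.Godement

section Pi

variable (T : TopCat.{u}) (A : T → AddCommGrpCat.{u})

/-- the presheaf `W ↦ ∏_{x ∈ W} A x`. -/
noncomputable def piPresheaf : TopCat.Presheaf AddCommGrpCat.{u} T where
  obj W := AddCommGrpCat.of (∀ x : W.unop, A x.1)
  map {W W'} i := AddCommGrpCat.ofHom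
    { toFun := fun s x => s ⟨x.1, i.unop.le x.2⟩
      map_zero' := rfl
      map_add' := fun _ _ => rfl }
  map_id _ := rfl
  map_comp _ _ := rfl

lemma piPresheaf_map_apply {W W' : (Opens T)ᵒᵖ} (i : W ⟶ W') (s : (piPresheaf T A).obj W)
    (x : W'.unop) : ((piPresheaf T A).map i s : ∀ x : W'.unop, A x.1) x =
      (s : ∀ x : W.unop, A x.1) ⟨x.1, i.unop.le x.2⟩ := rfl

lemma piPresheaf_isSheaf : (piPresheaf T A).IsSheaf := by
  rw [TopCat.Presheaf.isSheaf_iff_isSheafUniqueGluing]
  intro ι U sf hsf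
  classical
  have hmem : ∀ x : (iSup U : Opens T), ∃ i, x.1 ∈ U i := fun x => Opens.mem_iSup.1 x.2
  let s : ∀ x : (iSup U : Opens T), A x.1 := fun x =>
    (sf (hmem x).choose : ∀ y : U (hmem x).choose, A y.1) ⟨x.1, (hmem x).choose_spec⟩
  have key : ∀ (i j : ι) (x : T) (hi : x ∈ U i) (hj : x ∈ U j),
      (sf i : ∀ y : U i, A y.1) ⟨x, hi⟩ = (sf j : ∀ y : U j, A y.1) ⟨x, hj⟩ := by
    intro i j x hi hj
    have := congrFun (hsf i j) ⟨x, hi, hj⟩
    exact this
  refine ⟨s, fun i => ?_, fun t ht => ?_⟩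
  · funext x
    exact key _ _ x.1 _ x.2
  · funext x
    have := congrFun (ht (hmem x).choose) ⟨x.1, (hmem x).choose_spec⟩
    exact this

/-- the sheaf `W ↦ ∏_{x ∈ W} A x`. -/
noncomputable def piSheaf : Sheaf (Opens.grothendieckTopology T) AddCommGrpCat.{u} :=
  ⟨piPresheaf T A, piPresheaf_isSheaf T A⟩

end Pi

end Groth.Agent.LD.Godement

namespace Groth.Agent.LD.Godement

variable {X : TopCat.{u}} (F : CohTop.Ab X)

/-- `X` with the discrete topology. -/
abbrev Xd (X : TopCat.{u}) : TopCat.{u} := TopCat.discrete.obj ((forget TopCat).obj X)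

/-- the identity map `X_disc ⟶ X`. -/
abbrev fd (X : TopCat.{u}) : Xd X ⟶ X := TopCat.adj₁.counit.app X

/-- the family of stalks. -/
noncomputable abbrev stalks : Xd X → AddCommGrpCat.{u} := fun x =>
  TopCat.Presheaf.stalk F.obj ((fd X) x)

/-- the germ map `F ⟶ f_* ∏ F_x`. -/
noncomputable def toPi : F ⟶ (CohTop.push (fd X)).obj (piSheaf (Xd X) (stalks F)) where
  hom :=
    { app := fun U => AddCommGrpCat.ofHom
        { toFun := fun s x => TopCat.Presheaf.germ F.obj U.unop ((fd X) x.1) x.2 s
          map_zero' := by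
            funext x
            exact map_zero _
          map_add' := fun s t => by
            funext x
            exact map_add _ s t }
      naturality := fun U V i => by
        ext s
        funext x
        exact TopCat.Presheaf.germ_res_apply' F.obj i ((fd X) x.1) x.2 s }

lemma toPi_app_injective (U : Opens X) : Function.Injective ((toPi F).hom.app (op U)) := by
  intro s t hst
  refine TopCat.Presheaf.section_ext F U s t (fun x hx => ?_)
  exact congrFun hst ⟨x, hx⟩

instance : Mono (toPi F) := by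
  haveI : ∀ U, Mono ((toPi F).hom.app U) := fun U => by
    rw [AddCommGrpCat.mono_iff_injective]
    exact toPi_app_injective F U.unop
  haveI : Mono (toPi F).hom := NatTrans.mono_of_mono_app _
  exact Sheaf.Hom.mono_of_presheaf_mono _ _ _

/-- the unit `F ⟶ f_* f⁻¹ F` is a monomorphism. -/
theorem mono_unit :
    Mono ((TopCat.Sheaf.pullbackPushforwardAdjunction AddCommGrpCat.{u} (fd X)).unit.app F) := by
  let adj := TopCat.Sheaf.pullbackPushforwardAdjunction AddCommGrpCat.{u} (fd X)
  have h : adj.unit.app F ≫ (TopCat.Sheaf.pushforward AddCommGrpCat.{u} (fd X)).map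
      ((adj.homEquiv _ _).symm (toPi F)) = toPi F :=
    (adj.homEquiv_unit (f := (adj.homEquiv _ _).symm (toPi F))).symm.trans
      (Equiv.apply_symm_apply _ _)
  haveI m : Mono (toPi F) := inferInstance
  rw [← h] at m
  exact @mono_of_mono _ _ _ _ _ _ _ m

end Groth.Agent.LD.Godement

namespace Groth.Agent.LD.Godement

lemma subsingleton_obj_bot' {T : TopCat.{u}}
    (F : Sheaf (Opens.grothendieckTopology T) AddCommGrpCat.{u}) :
    Subsingleton (F.obj.obj (op (⊥ : Opens T))) := by
  have hT := TopCat.Sheaf.isTerminalOfEmpty F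
  have : IsZero (F.obj.obj (op (⊥ : Opens T))) :=
    IsZero.of_iso (isZero_zero _) (hT.uniqueUpToIso HasZeroObject.zeroIsTerminal)
  exact AddCommGrpCat.subsingleton_of_isZero this

/-- every abelian sheaf on a discrete space is flasque. -/
lemma isFlasque_of_discrete {T : TopCat.{u}} [DiscreteTopology T] (G : CohTop.Ab T) :
    TopCat.Sheaf.IsFlasque G := by
  constructor
  intro U V i
  rw [AddCommGrpCat.epi_iff_surjective]
  intro s
  have hVU : V.unop ≤ U.unop := i.unop.le
  let W : Opens T := ⟨(V.unop : Set T)ᶜ ∩ U.unop, isOpen_discrete _⟩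
  have hVW : V.unop ⊓ W = ⊥ := by
    ext x
    simp [W]
    intro h1 h2
    exact absurd h1 h2
  have hU : U.unop ≤ V.unop ⊔ W := by
    intro x hx
    by_cases h : x ∈ V.unop
    · exact Or.inl h
    · exact Or.inr ⟨h, hx⟩
  haveI : Subsingleton (G.obj.obj (op (V.unop ⊓ W))) := by
    rw [hVW]
    exact subsingleton_obj_bot' G
  obtain ⟨c, hc, -⟩ := Groth.Agent.LD.LCZ.glue2 G (A := V.unop) (B := W) s 0
    (Subsingleton.elim _ _)
  refine ⟨G.obj.map (homOfLE hU).op c, ?_⟩
  rw [← hc, ← ConcreteCategory.comp_apply, ← Functor.map_comp]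
  rfl

instance (X : TopCat.{u}) : DiscreteTopology (Xd X) := ⟨rfl⟩

theorem isFlasque_push_pull {X : TopCat.{u}} (F : CohTop.Ab X) :
    TopCat.Sheaf.IsFlasque ((CohTop.push (fd X)).obj ((CohTop.pull (fd X)).obj F)) := by
  haveI := isFlasque_of_discrete ((CohTop.pull (fd X)).obj F)
  exact TopCat.Sheaf.IsFlasque.pushforward_isFlasque _ _

end Groth.Agent.LD.Godement
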