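import Mathlib
import Groth.Prelude.Def_CohTop
import Groth.Prelude.Def_CohCx
import Groth.Agent.Lib.Lead.SC.ExtZero
import Groth.Agent.Lib.Lead.SC.ExtZeroK
import Groth.Agent.Lib.Lead.DAdj.MapHC

/-! # `H^p(U, K) ≅ H^p(U, K|_U)` for `K` in the derived category. -/

universe u
open CategoryTheory Limits Opposite TopologicalSpace Topology

namespace Groth.Agent.LD.DerivedRestr
open Groth.Agent.LD.SC

section General
universe v₁ u₁ w
variable {A : Type u₁} [Category.{v₁} A]

noncomputable def isoOfHomEquiv (X Y : A) (S : A → Type w) (eX : ∀ Z, (X ⟶ Z) ≃ S Z)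
    (eY : ∀ Z, (Y ⟶ Z) ≃ S Z) (mapS : ∀ {Z Z' : A}, (Z ⟶ Z') → S Z → S Z')
    (hX : ∀ {Z Z' : A} (ψ : X ⟶ Z) (g : Z ⟶ Z'), eX Z' (ψ ≫ g) = mapS g (eX Z ψ))
    (hY : ∀ {Z Z' : A} (ψ : Y ⟶ Z) (g : Z ⟶ Z'), eY Z' (ψ ≫ g) = mapS g (eY Z ψ)) : X ≅ Y :=
  Coyoneda.ext X Y (fun f => (eY _).symm (eX _ f)) (fun f => (eX _).symm (eY _ f))
    (fun f => by simp) (fun f => by simp)
    (fun f g => by
      apply (eX _).injective
      rw [hX, Equiv.apply_symm_apply, Equiv.apply_symm_apply, hY])

variable [Preadditive A]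

/-- precomposition with an isomorphism, additively. -/
def precompAddEquiv {P Q : A} (e : P ≅ Q) (Z : A) : (Q ⟶ Z) ≃+ (P ⟶ Z) where
  toFun f := e.hom ≫ f
  invFun g := e.inv ≫ g
  left_inv f := by simp
  right_inv g := by simp
  map_add' f g := Preadditive.comp_add _ _ _ _ _ _

/-- postcomposition with an isomorphism, additively. -/
def postcompAddEquiv {P Q : A} (e : P ≅ Q) (Z : A) : (Z ⟶ P) ≃+ (Z ⟶ Q) where
  toFun f := f ≫ e.hom
  invFun g := g ≫ e.inv
  left_inv f := by simp
  right_inv g := by simp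
  map_add' f g := Preadditive.add_comp _ _ _ _ _ _

end General

variable {X Y : TopCat.{u}} {j : Y ⟶ X} (hj : IsOpenEmbedding j)

/-- `j_! ℤ_W ≅ ℤ_{j(W)}`. -/
noncomputable def extZeroZU (W : Opens Y) :
    (extZero hj).obj (ZU (Opens.grothendieckTopology Y) W) ≅
      ZU (Opens.grothendieckTopology X) (hj.isOpenMap.functor.obj W) :=
  isoOfHomEquiv _ _ (fun Z => Z.obj.obj (op (hj.isOpenMap.functor.obj W)))
    (fun Z => ((extZeroAdj hj).homEquiv _ _).trans (homEquiv W ((resTop hj).obj Z)))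
    (fun Z => homEquiv (hj.isOpenMap.functor.obj W) Z)
    (fun g s => g.hom.app _ s)
    (fun ψ g => by
      simp only [Equiv.trans_apply]
      rw [Adjunction.homEquiv_naturality_right]
      exact homEquiv_comp W _ ((resTop hj).map g))
    (fun ψ g => homEquiv_comp _ ψ g)

instance : PreservesFiniteLimits (extZero hj) :=
  Functor.preservesFiniteLimits_of_preservesHomology _

instance : PreservesFiniteColimits (extZero hj) := by
  haveI : PreservesColimitsOfSize.{0, 0} (extZero hj) :=
    (extZeroAdj hj).leftAdjoint_preservesColimits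
  exact PreservesColimitsOfSize.preservesFiniteColimits _

theorem nonempty_HDU_resTop_equiv
    [HasDerivedCategory.{u} (Sheaf (Opens.grothendieckTopology X) AddCommGrpCat.{u})]
    [HasDerivedCategory.{u} (Sheaf (Opens.grothendieckTopology Y) AddCommGrpCat.{u})]
    [PreservesFiniteLimits (resTop hj)] [PreservesFiniteColimits (resTop hj)]
    (K : DerivedCategory (Sheaf (Opens.grothendieckTopology X) AddCommGrpCat.{u})) (p : ℤ)
    (W : Opens Y) (U : Opens X) (hU : hj.isOpenMap.functor.obj W = U) :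
    Nonempty (CohCx.HDU K p U ≃+ CohCx.HDU ((resTop hj).mapDerivedCategory.obj K) p W) := by
  let L := extZero hj
  let R := resTop hj
  let dadj : L.mapDerivedCategory ⊣ R.mapDerivedCategory :=
    Groth.Agent.LD.DAdj.mapDerivedCategoryAdj (extZeroAdj hj)
  haveI : L.mapDerivedCategory.Additive := inferInstance
  let A := ZU (Opens.grothendieckTopology Y) W
  -- step 1: shift
  let e1 : CohCx.HDU (R.mapDerivedCategory.obj K) p W ≃+
      ((DerivedCategory.singleFunctor _ 0).obj A ⟶
        R.mapDerivedCategory.obj ((shiftFunctor _ p).obj K)) :=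
    postcompAddEquiv ((R.mapDerivedCategory.commShiftIso p).app K).symm _
  -- step 2: adjunction
  let e2 := (dadj.homAddEquiv ((DerivedCategory.singleFunctor _ 0).obj A)
    ((shiftFunctor _ p).obj K)).symm
  -- step 3: single
  let e3 : (L.mapDerivedCategory.obj ((DerivedCategory.singleFunctor _ 0).obj A) ⟶
      (shiftFunctor _ p).obj K) ≃+
      ((DerivedCategory.singleFunctor _ 0).obj (L.obj A) ⟶ (shiftFunctor _ p).obj K) :=
    precompAddEquiv ((L.mapDerivedCategorySingleFunctor 0).app A).symm _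
  -- step 4: `j_! ℤ_W = ℤ_U`
  let i4 : L.obj A ≅ ZU (Opens.grothendieckTopology X) U :=
    extZeroZU hj W ≪≫ eqToIso (by rw [hU])
  let e4 : ((DerivedCategory.singleFunctor _ 0).obj (L.obj A) ⟶ (shiftFunctor _ p).obj K) ≃+
      ((DerivedCategory.singleFunctor _ 0).obj (ZU (Opens.grothendieckTopology X) U) ⟶
        (shiftFunctor _ p).obj K) :=
    precompAddEquiv ((DerivedCategory.singleFunctor _ 0).mapIso i4.symm) _
  exact ⟨(e1.trans (e2.trans (e3.trans e4))).symm⟩

end Groth.Agent.LD.DerivedRestr
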